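import Cfsg.Agent.LAE65.FixedHalf.Descent

/-!
# Fixed points of a generator on an abelian minimal normal subgroup
-/

set_option autoImplicit false

namespace Cfsg.Agent.LAE65.TwoGen

open Subgroup
open Module (finrank End)

variable {K : Type*} [Group K]

theorem eq_top_of_mem_ker {M : Type*} [Monoid M] (f : K →* M) {x : K}
    (hgen : Subgroup.normalClosure {x} = ⊤) (hx : f x = 1) : f.ker = ⊤ :=
  top_le_iff.mp (hgen.ge.trans (normalClosure_le_normal (Set.singleton_subset_iff.mpr hx)))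

theorem card_fixed_sq_lt_of_action {A : Type*} [Group A] [Finite A] [Group.IsSolvable A]
    {p q : ℕ} [Fact p.Prime] [Fact q.Prime] (hp5 : 5 ≤ p) {V : Type*} [AddCommGroup V]
    [Module (ZMod q) V] [Finite V] (act : A → V →+ V) (h1 : ∀ v, act 1 v = v)
    (hmul : ∀ a b v, act (a * b) v = act a (act b v))
    (hirr : ∀ U : AddSubgroup V, (∀ a, ∀ u ∈ U, act a u ∈ U) → U = ⊥ ∨ U = ⊤)
    (hnon : ∃ a v, act a v ≠ v) (x : A) (hx : x ^ p = 1)
    (hgen : Subgroup.normalClosure {x} = ⊤) :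
    Nat.card {v : V // act x v = v} ^ 2 < Nat.card V := by
  haveI : Module.Finite (ZMod q) V := Module.Finite.of_finite
  let ρ : A →* End (ZMod q) V :=
    { toFun := fun a => (act a).toZModLinearMap q
      map_one' := LinearMap.ext fun v => h1 v
      map_mul' := fun a b => LinearMap.ext fun v => hmul a b v }
  have hρ : ∀ a v, ρ a v = act a v := fun a v => rfl
  obtain ⟨a0, v0, hne⟩ := hnon
  have hker : ρ.ker ≠ ⊤ := by
    intro h
    have h2 : ρ a0 = 1 := (h ▸ mem_top a0 : a0 ∈ ρ.ker)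
    exact hne (by rw [← hρ, h2]; rfl)
  haveI : Nontrivial V := ⟨⟨act a0 v0, v0, hne⟩⟩
  let ρ' : A ⧸ ρ.ker →* End (ZMod q) V := QuotientGroup.lift ρ.ker ρ le_rfl
  have hinj : Function.Injective ρ' := by
    intro a b hab
    obtain ⟨a, rfl⟩ := QuotientGroup.mk_surjective a
    obtain ⟨b, rfl⟩ := QuotientGroup.mk_surjective b
    change ρ a = ρ b at hab
    rw [QuotientGroup.eq]
    show ρ (a⁻¹ * b) = 1
    rw [map_mul, ← hab, ← map_mul, inv_mul_cancel, map_one]
  have hx1 : (x : A ⧸ ρ.ker) ≠ 1 := fun h =>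
    hker (eq_top_of_mem_ker ρ hgen ((QuotientGroup.eq_one_iff x).mp h))
  have hgen' : Subgroup.normalClosure {(x : A ⧸ ρ.ker)} = ⊤ := by
    have h2 := Subgroup.map_normalClosure {x} (QuotientGroup.mk' ρ.ker)
      (QuotientGroup.mk'_surjective _)
    rw [hgen, Subgroup.map_top_of_surjective _ (QuotientGroup.mk'_surjective _),
      Set.image_singleton] at h2
    exact h2.symm
  have hirr' : ∀ U : Submodule (ZMod q) V, (∀ g, ∀ u ∈ U, ρ' g u ∈ U) → U = ⊥ ∨ U = ⊤ := by
    intro U hU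
    rcases hirr U.toAddSubgroup (fun a u hu => hU (a : A ⧸ ρ.ker) u hu) with h | h
    · exact Or.inl (Submodule.toAddSubgroup_injective (by simpa using h))
    · exact Or.inr (Submodule.toAddSubgroup_injective (by simpa using h))
  haveI : Group.IsSolvable (A ⧸ ρ.ker) :=
    Group.isSolvable_of_surjective (f := QuotientGroup.mk' ρ.ker) (QuotientGroup.mk'_surjective _)
  have hlt := FixedHalf.two_mul_fixed_lt hp5 q ρ' hinj hirr' (x : A ⧸ ρ.ker)
    (by rw [← QuotientGroup.mk_pow, hx, QuotientGroup.mk_one]) hx1 hgen'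
  have hcardV : Nat.card V = q ^ finrank (ZMod q) V := by
    have h := Module.natCard_eq_pow_finrank (K := ZMod q) (V := V)
    rwa [Nat.card_zmod] at h
  have hcardF : Nat.card {v : V // act x v = v} =
      q ^ finrank (ZMod q) (LinearMap.ker (ρ' (x : A ⧸ ρ.ker) - 1)) := by
    have h := Module.natCard_eq_pow_finrank (K := ZMod q)
      (V := LinearMap.ker (ρ' (x : A ⧸ ρ.ker) - 1))
    rw [Nat.card_zmod] at h
    rw [← h]
    refine Nat.card_congr (Equiv.subtypeEquivRight fun v => ?_)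
    rw [LinearMap.mem_ker, LinearMap.sub_apply, sub_eq_zero]
    rfl
  rw [hcardV, hcardF, ← pow_mul]
  exact Nat.pow_lt_pow_right (Fact.out : q.Prime).one_lt (by omega)

theorem card_fixed_sq_lt [Finite K] {p q : ℕ} [Fact p.Prime] [Fact q.Prime] (hp5 : 5 ≤ p)
    (W A : Subgroup K) [W.Normal] [Group.IsSolvable A] (hWc : ∀ u ∈ W, ∀ v ∈ W, u * v = v * u)
    (hWq : ∀ w ∈ W, w ^ q = 1) (hWA : W ⊔ A = ⊤)
    (hmin : ∀ M : Subgroup K, M.Normal → M ≤ W → M = ⊥ ∨ M = W)
    (x : A) (hx : x ^ p = 1) (hgen : Subgroup.normalClosure {x} = ⊤)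
    (hnon : ∃ a : A, ∃ w ∈ W, (a : K) * w ≠ w * a) :
    Nat.card ↥(W ⊓ Subgroup.centralizer {(x : K)}) ^ 2 < Nat.card W := by
  letI : CommGroup W :=
    { (inferInstance : Group W) with mul_comm := fun u v => Subtype.ext (hWc _ u.2 _ v.2) }
  letI : Module (ZMod q) (Additive W) := AddCommGroup.zmodModule (fun w => by
    apply Additive.toMul.injective
    rw [toMul_nsmul]
    exact Subtype.ext (hWq _ (Additive.toMul w).2))
  let act : A → Additive W →+ Additive W := fun a =>
    AddMonoidHom.mk' (fun w => Additive.ofMul (MulAut.conjNormal (a : K) (Additive.toMul w)))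
      (fun u v => by rw [toMul_add, map_mul, ofMul_mul])
  have hact : ∀ (a : A) (v : Additive W), ((Additive.toMul (act a v) : W) : K)
      = (a : K) * (Additive.toMul v : W) * (a : K)⁻¹ := fun a v => rfl
  have hext : ∀ v v' : Additive W,
      ((Additive.toMul v : W) : K) = (Additive.toMul v' : W) → v = v' := fun v v' h =>
    Additive.toMul.injective (Subtype.ext h)
  have hlt := card_fixed_sq_lt_of_action (q := q) hp5 act
    (fun v => hext _ _ (by rw [hact]; simp))
    (fun a b v => hext _ _ (by rw [hact, hact, hact]; simp [mul_assoc])) ?_ ?_ x hx hgen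
  · have hiff : ∀ w : W, act x (Additive.ofMul w) = Additive.ofMul w ↔
        (w : K) ∈ Subgroup.centralizer {(x : K)} := fun w => by
      rw [mem_centralizer_singleton_iff]
      constructor
      · intro h1
        have h2 := hact x (Additive.ofMul w)
        rw [h1] at h2
        exact eq_mul_inv_iff_mul_eq.mp h2
      · intro h1
        refine hext _ _ ?_
        rw [hact]
        show (x : K) * w * (x : K)⁻¹ = w
        rw [← h1, mul_inv_cancel_right]
    have hequiv : Nat.card ↥(W ⊓ Subgroup.centralizer {(x : K)}) =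
        Nat.card {v : Additive W // act x v = v} := Nat.card_congr
      { toFun := fun w => ⟨Additive.ofMul (⟨w.1, w.2.1⟩ : W), (hiff _).mpr w.2.2⟩
        invFun := fun v => ⟨((Additive.toMul v.1 : W) : K), (Additive.toMul v.1).2,
          (hiff (Additive.toMul v.1)).mp v.2⟩
        left_inv := fun w => rfl
        right_inv := fun v => rfl }
    rw [hequiv]
    exact hlt
  · intro U hU
    let M : Subgroup K := (AddSubgroup.toSubgroup' U).map W.subtype
    have hmem : ∀ w : W, (w : K) ∈ M ↔ Additive.ofMul w ∈ U := fun w => by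
      constructor
      · rintro ⟨w', hw', hww⟩
        obtain rfl : w' = w := Subtype.ext hww
        exact hw'
      · exact fun h => ⟨w, h, rfl⟩
    have hMW : M ≤ W := map_subtype_le _
    have hMn : M.Normal := by
      refine ⟨fun m hm k => ?_⟩
      have hk : k ∈ W ⊔ A := hWA ▸ mem_top k
      obtain ⟨u, hu, a, ha, rfl⟩ := Subgroup.mem_sup_of_normal_left.mp hk
      have h1 : a * m * a⁻¹ ∈ M :=
        (hmem (Additive.toMul (act ⟨a, ha⟩ (Additive.ofMul (⟨m, hMW hm⟩ : W))))).mpr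
          (hU ⟨a, ha⟩ _ ((hmem ⟨m, hMW hm⟩).mp hm))
      have h3 : u * a * m * (u * a)⁻¹ = a * m * a⁻¹ := by
        have h4 : u * a * m * (u * a)⁻¹ = u * (a * m * a⁻¹) * u⁻¹ := by group
        rw [h4, hWc u hu _ (hMW h1), mul_inv_cancel_right]
      rw [h3]
      exact h1
    rcases hmin M hMn hMW with h | h
    · left
      rw [eq_bot_iff]
      intro v hv
      have h1 := (hmem (Additive.toMul v)).mpr hv
      rw [h, mem_bot] at h1
      rw [AddSubgroup.mem_bot]
      exact hext _ _ h1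
    · right
      rw [eq_top_iff]
      intro v _
      exact (hmem (Additive.toMul v)).mp (h.symm ▸ (Additive.toMul v).2)
  · obtain ⟨a0, w0, hw0, hne⟩ := hnon
    refine ⟨a0, Additive.ofMul (⟨w0, hw0⟩ : W), fun h => hne ?_⟩
    have h2 := hact a0 (Additive.ofMul (⟨w0, hw0⟩ : W))
    rw [h] at h2
    exact (eq_mul_inv_iff_mul_eq.mp h2).symm

/-- Comparison of two complements. -/
theorem exists_of_complement [Finite K] {r : ℕ} [Fact r.Prime] (W A B R : Subgroup K)
    [W.Normal] (hWR : (Nat.card W).Coprime r) (hWA : W ⊓ A = ⊥) (hWB : W ⊓ B = ⊥)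
    (hAB : A ≤ W ⊔ B) (hBA : B ≤ W ⊔ A) (hRA : R ≤ A)
    (hRn : A ≤ Subgroup.normalizer (R : Set K)) (hR : IsPGroup r R)
    (hCR : W ⊓ Subgroup.centralizer (R : Set K) = ⊥) {x y v : K} (hxA : x ∈ A) (hxB : x ∈ B)
    (hyA : y ∈ A) (hv : v ∈ W) (hyB : v * y * v⁻¹ ∈ B) :
    ∃ w ∈ W, w * x = x * w ∧ (w⁻¹ * v) * y = y * (w⁻¹ * v) := by
  classical
  set M := W ⊔ R with hM
  have hRM : R ≤ M := le_sup_right
  set R' := M ⊓ B with hR'
  have hWR' : W ⊓ R' = ⊥ :=
    eq_bot_iff.mpr ((inf_le_inf_left W inf_le_right).trans hWB.le)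
  have hWRd : W ⊓ R = ⊥ := eq_bot_iff.mpr ((inf_le_inf_left W hRA).trans hWA.le)
  have hMeq : W ⊔ R' = M := by
    refine le_antisymm (sup_le le_sup_left inf_le_left) fun m hm => ?_
    have hm2 : m ∈ W ⊔ B := sup_le le_sup_left (hRA.trans hAB) hm
    obtain ⟨u, hu, b, hb, rfl⟩ := Subgroup.mem_sup_of_normal_left.mp hm2
    have hbM : b ∈ M := by simpa using mul_mem (inv_mem (mem_sup_left (T := R) hu)) hm
    exact mul_mem (mem_sup_left hu) (mem_sup_right ⟨hbM, hb⟩)
  have hcard : ∀ S : Subgroup K, W ⊓ S = ⊥ → Nat.card S = W.relIndex (W ⊔ S) := fun S hS => by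
    rw [relIndex_sup_left, ← inf_relIndex_right, hS, relIndex_bot_left]
  have hcardR : Nat.card R' = Nat.card R := by
    rw [hcard R' hWR', hcard R hWRd, hMeq]
  obtain ⟨n, hn⟩ := IsPGroup.iff_card.mp hR
  have hMcard : Nat.card M = Nat.card W * Nat.card R := by
    rw [hcard R hWRd, ← relIndex_bot_left, ← relIndex_bot_left,
      relIndex_mul_relIndex ⊥ W M bot_le le_sup_left]
  have hsyl : ∀ S : Subgroup K, S ≤ M → Nat.card S = Nat.card R →
      Nat.card (S.subgroupOf M) = r ^ (Nat.card M).factorization r := fun S hS hSc => by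
    rw [Nat.card_congr (subgroupOfEquivOfLe hS).toEquiv, hSc, hMcard,
      Nat.factorization_mul Nat.card_pos.ne' Nat.card_pos.ne', Finsupp.add_apply,
      Nat.factorization_eq_zero_of_not_dvd ((Fact.out : r.Prime).coprime_iff_not_dvd.mp hWR.symm),
      zero_add, hn, (Fact.out : r.Prime).factorization_pow, Finsupp.single_eq_same]
  obtain ⟨m, hm⟩ := MulAction.exists_smul_eq M (Sylow.ofCard (R.subgroupOf M) (hsyl R hRM rfl))
    (Sylow.ofCard (R'.subgroupOf M) (hsyl R' inf_le_left hcardR))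
  have hm' : ∀ k : K, k ∈ R' ↔ (m : K)⁻¹ * k * m ∈ R := by
    intro k
    have h1 := congrArg (fun P : Sylow r M => (P : Subgroup M)) hm
    simp only [Sylow.coe_subgroup_smul, Sylow.coe_ofCard] at h1
    constructor
    · intro hk
      have hkM : k ∈ M := inf_le_left (b := B) hk
      have h2 : (⟨k, hkM⟩ : M) ∈ R'.subgroupOf M := hk
      rw [← h1, Subgroup.mem_pointwise_smul_iff_inv_smul_mem] at h2
      simpa [MulAut.smul_def, MulAut.conj_apply, mem_subgroupOf] using h2
    · intro hk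
      have hkM : k ∈ M := by
        have := mul_mem (mul_mem m.2 (hRM hk)) (inv_mem m.2)
        simpa [mul_assoc] using this
      have h2 : (⟨k, hkM⟩ : M) ∈ R'.subgroupOf M := by
        rw [← h1, Subgroup.mem_pointwise_smul_iff_inv_smul_mem]
        simpa [MulAut.smul_def, MulAut.conj_apply, mem_subgroupOf] using hk
      exact h2
  obtain ⟨w, hw, ρ, hρ, hmw⟩ := Subgroup.mem_sup_of_normal_left.mp m.2
  have hw' : ∀ k : K, k ∈ R' ↔ w⁻¹ * k * w ∈ R := fun k => by
    rw [hm', ← hmw]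
    have h2 : (w * ρ)⁻¹ * k * (w * ρ) = ρ⁻¹ * (w⁻¹ * k * w) * ρ := by group
    rw [h2, mul_mem_cancel_right hρ, mul_mem_cancel_left (inv_mem hρ)]
  have hMn : A ≤ Subgroup.normalizer (M : Set K) := Coprime.le_normalizer_sup
    (by rw [normalizer_eq_top_iff.mpr (inferInstance : W.Normal)]; exact le_top) hRn
  have hBM : B ≤ Subgroup.normalizer (M : Set K) := hBA.trans (sup_le
    ((le_sup_left : W ≤ M).trans le_normalizer) hMn)
  have hkey : ∀ b ∈ B, w⁻¹ * b * w ∈ A := by
    intro b hb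
    set c := w⁻¹ * b * w with hc
    have hcR : c ∈ Subgroup.normalizer (R : Set K) := by
      refine mem_normalizer_fintype fun ρ hρ => ?_
      have h1 : w * ρ * w⁻¹ ∈ R' := (hw' _).mpr (by simpa [mul_assoc] using hρ)
      have h4 : b * (w * ρ * w⁻¹) * b⁻¹ ∈ B := mul_mem (mul_mem hb h1.2) (inv_mem hb)
      have h2 : b * (w * ρ * w⁻¹) * b⁻¹ ∈ R' :=
        ⟨(mem_normalizer_iff.mp (hBM hb) _).mp h1.1, h4⟩
      have h3 := (hw' _).mp h2
      simpa [hc, mul_assoc] using h3
    have hcWA : c ∈ W ⊔ A :=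
      mul_mem (mul_mem (mem_sup_left (inv_mem hw)) (hBA hb)) (mem_sup_left hw)
    obtain ⟨u, hu, a, ha, huc⟩ := Subgroup.mem_sup_of_normal_left.mp hcWA
    have hun : u ∈ Subgroup.normalizer (R : Set K) := by
      have : u = c * a⁻¹ := by rw [← huc, mul_inv_cancel_right]
      rw [this]
      exact mul_mem hcR (inv_mem (hRn ha))
    have hu1 : u ∈ W ⊓ Subgroup.centralizer (R : Set K) := by
      refine ⟨hu, mem_centralizer_iff.mpr fun ρ hρ => ?_⟩
      have h1 : u * ρ * u⁻¹ * ρ⁻¹ ∈ W ⊓ R := by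
        have h5 : u * ρ * u⁻¹ * ρ⁻¹ ∈ R :=
          mul_mem ((mem_normalizer_iff.mp hun _).mp hρ) (inv_mem hρ)
        refine ⟨?_, h5⟩
        have h2 := mul_mem hu ((inferInstance : W.Normal).conj_mem _ (inv_mem hu) ρ)
        simpa [mul_assoc] using h2
      rw [hWRd, mem_bot, mul_inv_eq_one, mul_inv_eq_iff_eq_mul] at h1
      exact h1.symm
    rw [hCR, mem_bot] at hu1
    rw [← huc, hu1, one_mul]
    exact ha
  have hfix : ∀ z ∈ A, ∀ u ∈ W, u⁻¹ * z * u ∈ A → u * z = z * u := by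
    intro z hz u hu h
    have h1 : u⁻¹ * z * u * z⁻¹ ∈ W ⊓ A := by
      have h5 : u⁻¹ * z * u * z⁻¹ ∈ A := mul_mem h (inv_mem hz)
      refine ⟨?_, h5⟩
      have h2 := mul_mem (inv_mem hu) ((inferInstance : W.Normal).conj_mem u hu z)
      simpa [mul_assoc] using h2
    rw [hWA, mem_bot, mul_inv_eq_one, mul_assoc, inv_mul_eq_iff_eq_mul] at h1
    exact h1.symm
  refine ⟨w, hw, hfix x hxA w hw (hkey x hxB), ?_⟩
  have h1 := hkey _ hyB
  have h2 : w⁻¹ * (v * y * v⁻¹) * w = (v⁻¹ * w)⁻¹ * y * (v⁻¹ * w) := by group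
  rw [h2] at h1
  have h3 := hfix y hyA _ (mul_mem (inv_mem hv) hw) h1
  have h4 := (show Commute (v⁻¹ * w) y from h3).inv_left
  rw [mul_inv_rev, inv_inv] at h4
  exact h4.eq

end Cfsg.Agent.LAE65.TwoGen
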