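import Cfsg.Agent.LAE65.TwoGen.Chief
import Cfsg.Agent.Lib.Coprime.Action

/-!
# A translated pair of conjugates generates a minimal extension
-/

set_option autoImplicit false

namespace Cfsg.Agent.LAE65.TwoGen

open Subgroup
open scoped Pointwise commutatorElement

variable {K : Type*} [Group K]

theorem commutator_lt_of_isPGroup [Finite K] {q : ℕ} [Fact q.Prime] {W : Subgroup K}
    (hW : IsPGroup q W) (hne : W ≠ ⊥) : ⁅W, W⁆ < W := by
  refine lt_of_le_of_ne (Subgroup.commutator_le_self W) fun h => hne ?_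
  haveI : Group.IsSolvable W := by
    haveI := hW.isNilpotent
    infer_instance
  obtain ⟨n, hn⟩ := Group.IsSolvable.solvable (G := W)
  have hall : ∀ j, W ≤ (derivedSeries W j).map W.subtype := by
    intro j
    induction j with
    | zero => rw [derivedSeries_zero, ← MonoidHom.range_eq_map, range_subtype]
    | succ j ih =>
      rw [derivedSeries_succ, map_commutator]
      exact h.ge.trans (Subgroup.commutator_mono ih ih)
  have h2 := hall n
  rw [hn, Subgroup.map_bot] at h2
  exact le_bot_iff.mp h2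

/-- Some `v ∈ W` is not a product of a fixed point of `x` and a fixed point of a conjugate. -/
theorem exists_not_mem_fixed_mul [Finite K] (W : Subgroup K) [W.Normal] (x a : K)
    (hlt : Nat.card ↥(W ⊓ Subgroup.centralizer {x}) ^ 2 < Nat.card W) :
    ∃ v ∈ W, ∀ w ∈ W, w * x = x * w →
      (w⁻¹ * v) * (a * x * a⁻¹) ≠ (a * x * a⁻¹) * (w⁻¹ * v) := by
  by_contra hc
  push Not at hc
  set Fx := W ⊓ Subgroup.centralizer {x}
  let f : Fx × Fx → K := fun wu => wu.1 * (a * wu.2 * a⁻¹)
  have hsub : (W : Set K) ⊆ Set.range f := by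
    intro v hv
    obtain ⟨w, hw, hwx, hwy⟩ := hc v hv
    have hu : a⁻¹ * (w⁻¹ * v) * a ∈ Fx := by
      refine ⟨?_, ?_⟩
      · simpa using (inferInstance : W.Normal).conj_mem _ (mul_mem (inv_mem hw) hv) a⁻¹
      · show _ ∈ Subgroup.centralizer {x}
        rw [mem_centralizer_singleton_iff]
        calc a⁻¹ * (w⁻¹ * v) * a * x = a⁻¹ * ((w⁻¹ * v) * (a * x * a⁻¹)) * a := by group
          _ = a⁻¹ * ((a * x * a⁻¹) * (w⁻¹ * v)) * a := by rw [hwy]
          _ = x * (a⁻¹ * (w⁻¹ * v) * a) := by group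
    refine ⟨(⟨w, hw, mem_centralizer_singleton_iff.mpr hwx⟩, ⟨_, hu⟩), ?_⟩
    simp [f, mul_assoc]
  have h1 : Nat.card W ≤ Nat.card (Set.range f) := Nat.card_mono (Set.toFinite _) hsub
  have h2 := Finite.card_range_le f
  rw [Nat.card_prod] at h2
  rw [pow_two] at hlt
  omega

theorem exists_gen_translate [Finite K] {p q r : ℕ} [Fact p.Prime] [Fact q.Prime] [Fact r.Prime]
    (hp5 : 5 ≤ p) (hqr : q ≠ r) (Q A R : Subgroup K) [Q.Normal] [Group.IsSolvable A]
    (hQA : Q ⊔ A = ⊤) (hQ : IsPGroup q Q) (hR : IsPGroup r R) (hRA : R ≤ A)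
    (hRn : A ≤ Subgroup.normalizer (R : Set K))
    (hnc : ∃ k ∈ Q, ∃ t ∈ R, t * k ≠ k * t)
    (hmin : ∀ N : Subgroup K, N.Normal → N ≤ Q → N ≠ Q → ∀ k ∈ N, ∀ t ∈ R, t * k = k * t)
    (x a : K) (hx : x ^ p = 1) (ha : a ∈ A)
    (hgen : A = Subgroup.closure {x, a * x * a⁻¹}) :
    ∃ v ∈ Q, Subgroup.closure {x, v * (a * x * a⁻¹) * v⁻¹} = ⊤ := by
  classical
  have hxA : x ∈ A := by rw [hgen]; exact subset_closure (Or.inl rfl)
  have hyA : a * x * a⁻¹ ∈ A := mul_mem (mul_mem ha hxA) (inv_mem ha)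
  have hQne : Q ≠ ⊥ := by
    intro h
    obtain ⟨k, hk, t, -, hkt⟩ := hnc
    rw [h, mem_bot] at hk
    exact hkt (by rw [hk, mul_one, one_mul])
  have hnotQ : ∀ S : Subgroup K, S.Normal → S ≤ Q →
      ¬ R ≤ Subgroup.centralizer (S : Set K) → S = Q := fun S hS hSQ hnle => by
    by_contra hne
    exact hnle fun t ht => mem_centralizer_iff.mpr fun k hk => (hmin S hS hSQ hne k hk t ht).symm
  have hQnc : ¬ R ≤ Subgroup.centralizer (Q : Set K) := fun hle => by
    obtain ⟨k, hk, t, ht, hkt⟩ := hnc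
    exact hkt (mem_centralizer_iff.mp (hle ht) k hk).symm
  have hcop : (Nat.card R).Coprime (Nat.card Q) := by
    obtain ⟨i, hi⟩ := IsPGroup.iff_card.mp hR
    obtain ⟨j, hj⟩ := IsPGroup.iff_card.mp hQ
    rw [hi, hj]
    exact ((Nat.coprime_primes Fact.out Fact.out).mpr hqr.symm).pow i j
  have hRQ : R ≤ Subgroup.normalizer (Q : Set K) := by
    rw [normalizer_eq_top_iff.mpr (inferInstance : Q.Normal)]; exact le_top
  have hQsolv : Group.IsSolvable Q := Coprime.isSolvable_of_isNilpotent' hQ.isNilpotent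
  have hidem := Coprime.commutator_commutator_eq R Q hRQ hcop (Or.inr hQsolv)
  -- `⁅Q, R⁆ = Q`
  have hQR : ⁅Q, R⁆ = Q := by
    refine hnotQ _ ?_ (Coprime.commutator_le_of_le_normalizer hRQ) fun hle => hQnc ?_
    · refine normalizer_eq_top_iff.mp (top_le_iff.mp (hQA ▸ sup_le
        (Coprime.le_normalizer_commutator_left R Q) ?_))
      intro g hg
      refine mem_normalizer_fintype fun z hz => ?_
      refine ((Subgroup.commutator_le.mpr fun k hk t ht => ?_) :
        ⁅Q, R⁆ ≤ (⁅Q, R⁆).comap ((MulAut.conj g : K ≃* K) : K →* K)) hz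
      show g * ⁅k, t⁆ * g⁻¹ ∈ ⁅Q, R⁆
      have h1 : g * ⁅k, t⁆ * g⁻¹ = ⁅g * k * g⁻¹, g * t * g⁻¹⁆ := by
        simp [commutatorElement_def, mul_assoc]
      rw [h1]
      exact commutator_mem_commutator ((inferInstance : Q.Normal).conj_mem k hk g)
        ((mem_normalizer_iff.mp (hRn hg) _).mp ht)
    · rw [← commutator_eq_bot_iff_le_centralizer, commutator_comm] at hle ⊢
      rw [← hidem]
      exact hle
  -- a maximal normal subgroup of `K` below `Q`
  obtain ⟨N, hNmax⟩ := exists_maximal_of_wellFoundedGT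
    (fun N : Subgroup K => N.Normal ∧ N < Q) ⟨⊥, inferInstance, bot_lt_iff_ne_bot.mpr hQne⟩
  obtain ⟨hNn, hNlt⟩ := hNmax.1
  haveI := hNn
  have hNR : ⁅N, R⁆ = ⊥ := commutator_eq_bot_iff_le_centralizer.mpr fun k hk =>
    mem_centralizer_iff.mpr fun t ht => hmin N hNn hNlt.le hNlt.ne k hk t ht
  have hNQ : ⁅Q, N⁆ = ⊥ := by
    rw [← hQR]
    refine Subgroup.commutator_commutator_eq_bot_of_rotate ?_ ?_
    · rw [commutator_comm R N, hNR, Subgroup.commutator_bot_left]
    · have h1 : ⁅N, Q⁆ ≤ N := Coprime.commutator_le_of_le_normalizer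
        (by rw [normalizer_eq_top_iff.mpr hNn]; exact le_top)
      exact eq_bot_iff.mpr ((Subgroup.commutator_mono h1 le_rfl).trans hNR.le)
  let π := QuotientGroup.mk' N
  have hπ : Function.Surjective π := QuotientGroup.mk'_surjective N
  have hker : ∀ k, π k = 1 ↔ k ∈ N := fun k => QuotientGroup.eq_one_iff k
  set W := Q.map π with hW
  haveI hWn : W.Normal := (inferInstance : Q.Normal).map π hπ
  set A' := A.map π with hA'
  haveI : Group.IsSolvable A' := Group.isSolvable_of_surjective (π.subgroupMap_surjective A)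
  have hWA : W ⊔ A' = ⊤ := by
    rw [hW, hA', ← Subgroup.map_sup, hQA, Subgroup.map_top_of_surjective _ hπ]
  have hcW : W.comap π = Q := by
    rw [hW, comap_map_eq, show π.ker = N from QuotientGroup.ker_mk' N, sup_eq_left]
    exact hNlt.le
  have hWmin : ∀ M : Subgroup (K ⧸ N), M.Normal → M ≤ W → M = ⊥ ∨ M = W := by
    intro M hM hMW
    have h1 : M.comap π ≤ Q := hcW ▸ Subgroup.comap_mono hMW
    have h2 : N ≤ M.comap π := fun k hk => by
      show π k ∈ M
      rw [(hker k).mpr hk]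
      exact one_mem M
    rcases eq_or_lt_of_le h1 with h3 | h3
    · right
      rw [hW, ← h3, map_comap_eq_self_of_surjective hπ]
    · left
      have h4 : M.comap π = N := le_antisymm (hNmax.2 ⟨hM.comap π, h3⟩ h2) h2
      rw [← map_comap_eq_self_of_surjective hπ M, h4, Subgroup.map_eq_bot_iff]
      exact (QuotientGroup.ker_mk' N).ge
  have hWq' : IsPGroup q W := hQ.map π
  have hWne : W ≠ ⊥ := by
    intro h
    have h1 := congrArg (Subgroup.comap π) h
    rw [hcW, MonoidHom.comap_bot, QuotientGroup.ker_mk'] at h1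
    exact hNlt.ne h1.symm
  have hWc : ∀ u ∈ W, ∀ v ∈ W, u * v = v * u := by
    have hlt := commutator_lt_of_isPGroup hWq' hWne
    have hb : ⁅W, W⁆ = ⊥ := (hWmin _ inferInstance hlt.le).resolve_right hlt.ne
    intro u hu v hv
    have h1 := commutator_eq_bot_iff_le_centralizer.mp hb hu
    exact (mem_centralizer_iff.mp h1 v hv).symm
  have hWq : ∀ w ∈ W, w ^ q = 1 := by
    let M : Subgroup (K ⧸ N) :=
      { carrier := {w | w ∈ W ∧ w ^ q = 1}
        one_mem' := ⟨one_mem _, one_pow q⟩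
        mul_mem' := fun {u v} hu hv => ⟨mul_mem hu.1 hv.1, by
          rw [(show Commute u v from hWc u hu.1 v hv.1).mul_pow, hu.2, hv.2, one_mul]⟩
        inv_mem' := fun {u} hu => ⟨inv_mem hu.1, by rw [inv_pow, hu.2, inv_one]⟩ }
    have hMn : M.Normal := ⟨fun u hu g => ⟨hWn.conj_mem u hu.1 g, by
      rw [conj_pow, hu.2, mul_one, mul_inv_cancel]⟩⟩
    rcases hWmin M hMn (fun u hu => hu.1) with h | h
    · exfalso
      obtain ⟨n, hn⟩ := IsPGroup.iff_card.mp hWq'
      have hn0 : n ≠ 0 := fun h0 => hWne (Subgroup.eq_bot_of_card_eq W (by rw [hn, h0, pow_zero]))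
      obtain ⟨u, hu⟩ := exists_prime_orderOf_dvd_card' q (hn ▸ dvd_pow_self q hn0)
      have h1 : (u : K ⧸ N) ∈ M := ⟨u.2, by
        rw [← Subgroup.coe_pow, ← hu, pow_orderOf_eq_one, Subgroup.coe_one]⟩
      rw [h, mem_bot, OneMemClass.coe_eq_one] at h1
      rw [h1, orderOf_one] at hu
      exact (Fact.out : q.Prime).ne_one hu.symm
    · exact fun w hw => (h.symm ▸ hw : w ∈ M).2
  set R' := R.map π with hR'
  have hR'A : R' ≤ A' := Subgroup.map_mono hRA
  have hR'n : A' ≤ Subgroup.normalizer (R' : Set (K ⧸ N)) :=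
    (Subgroup.map_mono hRn).trans (le_normalizer_map π)
  have hR'r : IsPGroup r R' := hR.map π
  have hWnR : ¬ ∀ w ∈ W, ∀ t ∈ R', w * t = t * w := by
    intro hall
    have h1 : ⁅Q, R⁆ ≤ N := Subgroup.commutator_le.mpr fun k hk t ht => by
      rw [← hker, map_commutatorElement, commutatorElement_eq_one_iff_mul_comm]
      exact hall _ (mem_map_of_mem π hk) _ (mem_map_of_mem π ht)
    rw [hQR] at h1
    exact absurd h1 (not_le_of_gt hNlt)
  have hCR : W ⊓ Subgroup.centralizer (R' : Set (K ⧸ N)) = ⊥ := by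
    have hn : (W ⊓ Subgroup.centralizer (R' : Set (K ⧸ N))).Normal := by
      refine normalizer_eq_top_iff.mp (top_le_iff.mp (hWA ▸ sup_le ?_ ?_))
      · refine Coprime.le_normalizer_of_conj_mem fun u hu z hz => ?_
        rw [hWc u hu z hz.1, mul_inv_cancel_right]
        exact hz
      · exact Coprime.le_normalizer_inf (by rw [normalizer_eq_top_iff.mpr hWn]; exact le_top)
          (Coprime.le_normalizer_centralizer hR'n)
    rcases hWmin _ hn inf_le_left with h | h
    · exact h
    · exact absurd (fun w hw t ht =>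
        (mem_centralizer_iff.mp (inf_eq_left.mp h hw) t ht).symm) hWnR
  have hWA' : W ⊓ A' = ⊥ := by
    have hn : (W ⊓ A').Normal := by
      refine normalizer_eq_top_iff.mp (top_le_iff.mp (hWA ▸ sup_le ?_ ?_))
      · refine Coprime.le_normalizer_of_conj_mem fun u hu z hz => ?_
        rw [hWc u hu z hz.1, mul_inv_cancel_right]
        exact hz
      · exact Coprime.le_normalizer_inf (by rw [normalizer_eq_top_iff.mpr hWn]; exact le_top)
          le_normalizer
    rcases hWmin _ hn inf_le_left with h | h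
    · exact h
    · exfalso
      have hWA2 : W ≤ A' := inf_eq_left.mp h
      have hA'top : A' = ⊤ := top_le_iff.mp (hWA ▸ sup_le hWA2 le_rfl)
      haveI : R'.Normal := normalizer_eq_top_iff.mp (top_le_iff.mp (hA'top ▸ hR'n))
      exact hWnR fun w hw t ht => Subgroup.commute_of_normal_of_disjoint W R' hWn inferInstance
        (IsPGroup.disjoint_of_ne q r hqr _ _ hWq' hR'r) w t hw ht
  -- the fixed points of the generator are few
  let x' : A' := ⟨π x, mem_map_of_mem π hxA⟩
  let a' : A' := ⟨π a, mem_map_of_mem π ha⟩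
  have hgenA' : Subgroup.normalClosure {x'} = ⊤ := by
    have hc : Subgroup.closure ({π x, π (a * x * a⁻¹)} : Set (K ⧸ N)) = A' := by
      rw [hA', hgen, MonoidHom.map_closure, Set.image_pair]
    have hle : A' ≤ (Subgroup.normalClosure {x'}).map A'.subtype := by
      refine le_of_eq_of_le hc.symm ((closure_le _).mpr ?_)
      rintro z (rfl | rfl)
      · exact ⟨x', subset_normalClosure rfl, rfl⟩
      · exact ⟨a' * x' * a'⁻¹,
          (Subgroup.normalClosure_normal).conj_mem x' (subset_normalClosure (Set.mem_singleton x')) a',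
          by simp [x', a']⟩
    rw [eq_top_iff]
    intro z _
    obtain ⟨z', hz', hzz⟩ := hle z.2
    rwa [Subtype.ext hzz] at hz'
  have hnon : ∃ b : A', ∃ w ∈ W, (b : K ⧸ N) * w ≠ w * b := by
    by_contra hc
    push Not at hc
    exact hWnR fun w hw t ht => (hc ⟨t, hR'A ht⟩ w hw).symm
  have hx' : x' ^ p = 1 := Subtype.ext (by
    show π x ^ p = 1
    rw [← map_pow, hx, map_one])
  have hlt := card_fixed_sq_lt hp5 W A' hWc hWq hWA hWmin x' hx' hgenA' hnon
  obtain ⟨v', hv', hbad⟩ := exists_not_mem_fixed_mul W (π x) (π a) hlt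
  obtain ⟨v, hv, rfl⟩ := mem_map.mp hv'
  refine ⟨v, hv, ?_⟩
  set B := Subgroup.closure {x, v * (a * x * a⁻¹) * v⁻¹} with hB
  have hxB : x ∈ B := subset_closure (Or.inl rfl)
  have hyB : v * (a * x * a⁻¹) * v⁻¹ ∈ B := subset_closure (Or.inr rfl)
  have hAQB : A ≤ Q ⊔ B := by
    rw [hgen, closure_le]
    rintro z (rfl | rfl)
    · exact mem_sup_right hxB
    · have := mul_mem (mul_mem (mem_sup_left (T := B) (inv_mem hv)) (mem_sup_right hyB))
        (mem_sup_left hv)
      simpa [mul_assoc] using this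
  have hBQA : B ≤ Q ⊔ A := hQA.symm ▸ le_top
  have hQB : Q ⊔ B = ⊤ := top_le_iff.mp (hQA ▸ sup_le le_sup_left hAQB)
  set B' := B.map π with hB'
  have hWB : W ⊔ B' = ⊤ := by
    rw [hW, hB', ← Subgroup.map_sup, hQB, Subgroup.map_top_of_surjective _ hπ]
  have hn : (W ⊓ B').Normal := by
    refine normalizer_eq_top_iff.mp (top_le_iff.mp (hWB ▸ sup_le ?_ ?_))
    · refine Coprime.le_normalizer_of_conj_mem fun u hu z hz => ?_
      rw [hWc u hu z hz.1, mul_inv_cancel_right]
      exact hz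
    · exact Coprime.le_normalizer_inf (by rw [normalizer_eq_top_iff.mpr hWn]; exact le_top)
        le_normalizer
  rcases hWmin _ hn inf_le_left with h | h
  · exfalso
    have hcopW : (Nat.card W).Coprime r := by
      obtain ⟨n, hn⟩ := IsPGroup.iff_card.mp hWq'
      rw [hn]
      exact ((Nat.coprime_primes Fact.out Fact.out).mpr hqr).pow_left n
    obtain ⟨w, hw, hwx, hwy⟩ := exists_of_complement W A' B' R' hcopW hWA' h
      (hWB.symm ▸ le_top) (hWA.symm ▸ le_top) hR'A hR'n hR'r hCR (x := π x)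
      (y := π a * π x * (π a)⁻¹) (v := π v) (mem_map_of_mem π hxA) (mem_map_of_mem π hxB)
      (by rw [← map_mul, ← map_inv, ← map_mul]; exact mem_map_of_mem π hyA)
      (mem_map_of_mem π hv)
      (by
        have h9 := mem_map_of_mem π hyB
        simp only [map_mul, map_inv] at h9
        exact h9)
    exact hbad w hw hwx hwy
  · have hB'top : B' = ⊤ := top_le_iff.mp (hWB ▸ sup_le (inf_eq_left.mp h) le_rfl)
    have hBN : N ⊔ B = ⊤ := by
      have h1 := congrArg (Subgroup.comap π) hB'top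
      rw [hB', comap_map_eq, comap_top, QuotientGroup.ker_mk', sup_comm] at h1
      exact h1
    have hNC : N ≤ Subgroup.centralizer (Q : Set K) := by
      rw [← commutator_eq_bot_iff_le_centralizer, commutator_comm]
      exact hNQ
    haveI hBQn : (B ⊓ Q).Normal := by
      refine normalizer_eq_top_iff.mp (top_le_iff.mp (hBN ▸ sup_le ?_ ?_))
      · refine Coprime.le_normalizer_of_conj_mem fun u hu z hz => ?_
        rw [(mem_centralizer_iff.mp (hNC hu) z hz.2).symm, mul_inv_cancel_right]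
        exact hz
      · exact Coprime.le_normalizer_inf le_normalizer
          (by rw [normalizer_eq_top_iff.mpr (inferInstance : Q.Normal)]; exact le_top)
    have hQle : Q ≤ N ⊔ (B ⊓ Q) := by
      intro k hk
      have hk' : k ∈ N ⊔ B := hBN ▸ mem_top k
      obtain ⟨n, hn, b, hb, rfl⟩ := Subgroup.mem_sup_of_normal_left.mp hk'
      have hbQ : b ∈ Q := by simpa using mul_mem (inv_mem (hNlt.le hn)) hk
      exact mul_mem (mem_sup_left hn) (mem_sup_right ⟨hb, hbQ⟩)
    have hBQ : B ⊓ Q = Q := hnotQ _ hBQn inf_le_right fun hle => hQnc fun t ht => by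
      rw [mem_centralizer_iff]
      intro k hk
      obtain ⟨n, hn, b, hb, rfl⟩ := Subgroup.mem_sup_of_normal_left.mp (hQle hk)
      have h1 : Commute n t := (hmin N hNn hNlt.le hNlt.ne n hn t ht).symm
      have h2 : Commute b t := mem_centralizer_iff.mp (hle ht) b hb
      exact (h1.mul_left h2).eq
    exact top_le_iff.mp (hQB ▸ sup_le (inf_eq_right.mp hBQ) le_rfl)

end Cfsg.Agent.LAE65.TwoGen
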