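import Cfsg.Agent.LAE65.TwoGen.Inner
import Cfsg.Agent.Lib.Fitting

/-!
# Maximal solvable subgroups generated by two conjugates
-/

set_option autoImplicit false

namespace Cfsg.Agent.LAE65.TwoGen

open Subgroup

variable {G : Type*} [Group G]

theorem isSolvable_sup {Q A : Subgroup G} [Group.IsSolvable Q] [Group.IsSolvable A]
    (h : A ≤ Subgroup.normalizer (Q : Set G)) : Group.IsSolvable ↥(Q ⊔ A) := by
  set H := Q ⊔ A with hH
  have hHn : H ≤ Subgroup.normalizer (Q : Set G) := sup_le le_normalizer h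
  haveI : (Q.subgroupOf H).Normal := normal_subgroupOf_of_le_normalizer hHn
  haveI : Group.IsSolvable (Q.subgroupOf H) :=
    Group.isSolvable_of_surjective (f := (subgroupOfEquivOfLe (le_sup_left : Q ≤ H)).symm.toMonoidHom)
      (subgroupOfEquivOfLe (le_sup_left : Q ≤ H)).symm.surjective
  haveI : Group.IsSolvable (A.subgroupOf H) :=
    Group.isSolvable_of_surjective (f := (subgroupOfEquivOfLe (le_sup_right : A ≤ H)).symm.toMonoidHom)
      (subgroupOfEquivOfLe (le_sup_right : A ≤ H)).symm.surjective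
  haveI : Group.IsSolvable (↥H ⧸ Q.subgroupOf H) := by
    refine Group.isSolvable_of_surjective
      (f := (QuotientGroup.mk' (Q.subgroupOf H)).comp (A.subgroupOf H).subtype) fun z => ?_
    obtain ⟨k, rfl⟩ := QuotientGroup.mk'_surjective _ z
    have hk : k ∈ Q.subgroupOf H ⊔ A.subgroupOf H := by
      rw [← subgroupOf_sup le_sup_left le_sup_right, subgroupOf_self]
      exact mem_top k
    obtain ⟨u, hu, a, ha, rfl⟩ := Subgroup.mem_sup_of_normal_left.mp hk
    refine ⟨⟨a, ha⟩, ?_⟩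
    show (QuotientGroup.mk' _) a = (QuotientGroup.mk' _) (u * a)
    rw [map_mul, show (QuotientGroup.mk' (Q.subgroupOf H)) u = 1 from
      (QuotientGroup.eq_one_iff u).mpr hu, one_mul]
  exact Group.isSolvable_of_ker_le_range (Q.subgroupOf H).subtype
    (QuotientGroup.mk' (Q.subgroupOf H)) (by rw [QuotientGroup.ker_mk', range_subtype])

/-- In a maximal `A`, a normal `r`-subgroup centralises every `q`-subgroup normalised by `A`. -/
theorem commute_of_maximal [Finite G] {p q r : ℕ} [Fact p.Prime] [Fact q.Prime] [Fact r.Prime]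
    (hp5 : 5 ≤ p) (hqr : q ≠ r) (A R : Subgroup G) [Group.IsSolvable A] (hRA : R ≤ A)
    (hRn : A ≤ Subgroup.normalizer (R : Set G)) (hR : IsPGroup r R)
    (x a : G) (hx : x ^ p = 1) (ha : a ∈ A) (hgen : A = Subgroup.closure {x, a * x * a⁻¹})
    (hmax : ∀ B : Subgroup G, A ≤ B → Group.IsSolvable B →
      (∃ b ∈ B, B = Subgroup.closure {x, b * x * b⁻¹}) → B = A)
    (Q : Subgroup G) (hQ : IsPGroup q Q) (hAQ : A ≤ Subgroup.normalizer (Q : Set G)) :
    ∀ k ∈ Q, ∀ t ∈ R, t * k = k * t := by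
  classical
  revert hQ hAQ
  induction Q using WellFoundedLT.induction with
  | _ Q ih =>
  intro hQ hAQ
  by_contra hcon
  push Not at hcon
  obtain ⟨k0, hk0, t0, ht0, hne⟩ := hcon
  set H := Q ⊔ A with hH
  haveI : Group.IsSolvable Q := Coprime.isSolvable_of_isNilpotent' hQ.isNilpotent
  haveI : Group.IsSolvable H := isSolvable_sup hAQ
  have hQH : Q ≤ H := le_sup_left
  have hAH : A ≤ H := le_sup_right
  have hRH : R ≤ H := hRA.trans hAH
  have hxA : x ∈ A := by rw [hgen]; exact subset_closure (Or.inl rfl)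
  haveI : (Q.subgroupOf H).Normal :=
    normal_subgroupOf_of_le_normalizer (sup_le le_normalizer hAQ)
  haveI : Group.IsSolvable (A.subgroupOf H) :=
    Group.isSolvable_of_surjective (f := (subgroupOfEquivOfLe hAH).symm.toMonoidHom)
      (subgroupOfEquivOfLe hAH).symm.surjective
  have hH1 : (⟨x, hAH hxA⟩ : H) ^ p = 1 := Subtype.ext hx
  have hgenH : A.subgroupOf H = Subgroup.closure
      {(⟨x, hAH hxA⟩ : H), ⟨a, hAH ha⟩ * ⟨x, hAH hxA⟩ * (⟨a, hAH ha⟩ : H)⁻¹} := by
    apply map_injective H.subtype_injective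
    rw [subgroupOf_map_subtype, inf_eq_left.mpr hAH, MonoidHom.map_closure, Set.image_pair]
    exact hgen
  obtain ⟨v, hv, hvtop⟩ := exists_gen_translate (K := H) hp5 hqr (Q.subgroupOf H)
    (A.subgroupOf H) (R.subgroupOf H)
    (by rw [← subgroupOf_sup hQH hAH, subgroupOf_self])
    (hQ.of_equiv (subgroupOfEquivOfLe hQH).symm) (hR.of_equiv (subgroupOfEquivOfLe hRH).symm)
    (fun k hk => hRA hk)
    (fun g hg => by
      refine mem_normalizer_fintype fun z hz => ?_
      exact (mem_normalizer_iff.mp (hRn hg) _).mp hz)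
    ⟨⟨k0, hQH hk0⟩, hk0, ⟨t0, hRH ht0⟩, ht0, fun h => hne (congrArg Subtype.val h)⟩
    (fun N hN hNQ hNne k hk t ht => by
      have hlt : N.map H.subtype < Q := by
        refine lt_of_le_of_ne ?_ fun h => hNne ?_
        · rintro _ ⟨z, hz, rfl⟩
          exact hNQ hz
        · apply map_injective H.subtype_injective
          rw [h, subgroupOf_map_subtype, inf_eq_left.mpr hQH]
      refine Subtype.ext (ih _ hlt (hQ.to_le hlt.le) (fun g hg => ?_) k (mem_map_of_mem _ hk) t ht)
      refine mem_normalizer_fintype ?_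
      rintro _ ⟨z, hz, rfl⟩
      exact ⟨_, hN.conj_mem z hz ⟨g, hAH hg⟩, rfl⟩)
    ⟨x, hAH hxA⟩ ⟨a, hAH ha⟩ hH1 ha hgenH
  have hvQ : (v : G) ∈ Q := hv
  have hB : H = Subgroup.closure {x, ((v : G) * a) * x * ((v : G) * a)⁻¹} := by
    have h1 := congrArg (Subgroup.map H.subtype) hvtop
    rw [MonoidHom.map_closure, Set.image_pair, ← MonoidHom.range_eq_map, range_subtype] at h1
    refine Eq.trans h1.symm ?_
    congr 2
    simp [mul_assoc]
  have hHA : H = A := hmax H hAH inferInstance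
    ⟨(v : G) * a, mul_mem (hQH hvQ) (hAH ha), hB⟩
  have hQA : Q ≤ A := hHA ▸ hQH
  haveI : (Q.subgroupOf A).Normal := normal_subgroupOf_of_le_normalizer hAQ
  haveI : (R.subgroupOf A).Normal := normal_subgroupOf_of_le_normalizer hRn
  have h2 := Subgroup.commute_of_normal_of_disjoint (Q.subgroupOf A) (R.subgroupOf A)
    inferInstance inferInstance
    (IsPGroup.disjoint_of_ne q r hqr _ _ (hQ.of_equiv (subgroupOfEquivOfLe hQA).symm)
      (hR.of_equiv (subgroupOfEquivOfLe hRA).symm))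
    ⟨k0, hQA hk0⟩ ⟨t0, hRA ht0⟩ hk0 ht0
  exact hne (congrArg Subtype.val h2.eq).symm

end Cfsg.Agent.LAE65.TwoGen
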